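import Cfsg.Agent.CGT.Pres

/-! Column data of the presented group `Cfsg.Spor.Ly`. -/

namespace CL.CGT.Ly

noncomputable section

def cl : List (Cfsg.Spor.Ly.Gen × Bool) := [(.a, true), (.a, false), (.b, true), (.b, false), (.c, true),
    (.c, false), (.d, true), (.d, false), (.z, true), (.z, false), (.e, true), (.a1, true), (.a1, false),
    (.a2, true), (.a2, false), (.a3, true), (.a3, false), (.a4, true), (.a4, false), (.c1, true), (.c1,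
    false), (.c2, true), (.c2, false), (.c3, true), (.c3, false), (.c4, true), (.c4, false), (.c5, true),
    (.c5, false), (.u, true), (.u, false), (.x23, true), (.x23, false), (.x24, true), (.x24, false), (.x25,
    true), (.x25, false), (.x29, true), (.x29, false), (.x47, true), (.x47, false), (.x96, true), (.x96,
    false), (.x129, true), (.x129, false), (.x162, true), (.x162, false), (.x163, true), (.x163, false),
    (.x164, true), (.x164, false), (.x165, true), (.x165, false), (.x166, true), (.x166, false), (.x167,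
    true), (.x167, false), (.x168, true), (.x168, false), (.x169, true), (.x169, false), (.x364, true),
    (.x364, false), (.x365, true), (.x365, false), (.x366, true), (.x366, false), (.x367, true), (.x367,
    false), (.x368, true), (.x368, false), (.x369, true), (.x369, false), (.x370, true), (.x370, false),
    (.x371, true), (.x371, false)]

def idx : Cfsg.Spor.Ly.Gen → ℕ
  | .a => 0
  | .b => 2
  | .c => 4
  | .d => 6
  | .z => 8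
  | .e => 10
  | .a1 => 11
  | .a2 => 13
  | .a3 => 15
  | .a4 => 17
  | .c1 => 19
  | .c2 => 21
  | .c3 => 23
  | .c4 => 25
  | .c5 => 27
  | .u => 29
  | .x23 => 31
  | .x24 => 33
  | .x25 => 35
  | .x29 => 37
  | .x47 => 39
  | .x96 => 41
  | .x129 => 43
  | .x162 => 45
  | .x163 => 47
  | .x164 => 49
  | .x165 => 51
  | .x166 => 53
  | .x167 => 55
  | .x168 => 57
  | .x169 => 59
  | .x364 => 61
  | .x365 => 63
  | .x366 => 65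
  | .x367 => 67
  | .x368 => 69
  | .x369 => 71
  | .x370 => 73
  | .x371 => 75

def IV : ℕ := nat_lit
    0x4b4c494a47484546434441423f403d3e3b3c393a37383536333431322f302d2e2b2c292a27282526232421221f201d1e1b1c191a17181516131411120f100d0e0b0c0a08090607040502030001

def prs : List (ℕ × ℕ × ℕ) := []

def ex : List WE := [.pow (.g 0) 8,
  .pow (.g 2) 5,
  .pow (.mul (.g 0) (.g 2)) 4,
  .mul (.mul (.mul (.inv (.pow (.g 0) 2)) (.inv (.g 2))) (.pow (.g 0) 2)) (.g 2),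
  .pow (.mul (.mul (.mul (.inv (.g 0)) (.inv (.g 2))) (.g 0)) (.g 2)) 3,
  .mul (.g 19) (.inv (.g 4)),
  .mul (.g 21) (.inv (.mul (.mul (.inv (.g 0)) (.g 4)) (.g 0))),
  .mul (.g 23) (.inv (.mul (.mul (.inv (.g 2)) (.g 4)) (.g 2))),
  .mul (.g 25) (.inv (.mul (.mul (.inv (.inv (.g 2))) (.g 4)) (.inv (.g 2)))),
  .mul (.g 27) (.inv (.mul (.mul (.mul (.inv (.g 19)) (.inv (.g 21))) (.g 19)) (.g 21))),
  .pow (.g 19) 5,
  .pow (.g 27) 5,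
  .mul (.mul (.mul (.inv (.g 19)) (.inv (.g 27))) (.g 19)) (.g 27),
  .mul (.mul (.mul (.inv (.g 21)) (.inv (.g 27))) (.g 21)) (.g 27),
  .mul (.mul (.mul (.inv (.g 23)) (.inv (.g 27))) (.g 23)) (.g 27),
  .mul (.mul (.mul (.inv (.g 25)) (.inv (.g 27))) (.g 25)) (.g 27),
  .mul (.mul (.mul (.mul (.inv (.g 19)) (.inv (.g 23))) (.g 19)) (.g 23)) (.inv (.inv (.pow (.g 27) 2))),
  .mul (.mul (.mul (.mul (.inv (.g 19)) (.inv (.g 25))) (.g 19)) (.g 25)) (.inv (.pow (.g 27) 2)),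
  .mul (.mul (.mul (.mul (.inv (.g 21)) (.inv (.g 23))) (.g 21)) (.g 23)) (.inv (.inv (.g 27))),
  .mul (.mul (.mul (.inv (.g 21)) (.inv (.g 25))) (.g 21)) (.g 25),
  .mul (.mul (.mul (.mul (.inv (.g 23)) (.inv (.g 25))) (.g 23)) (.g 25)) (.inv (.inv (.g 27))),
  .mul (.mul (.mul (.inv (.g 0)) (.g 21)) (.g 0)) (.inv (.inv (.pow (.g 19) 2))),
  .mul (.mul (.mul (.inv (.g 0)) (.g 23)) (.g 0)) (.inv (.mul (.mul (.inv (.pow (.g 23) 2)) (.g 19)) (.g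
    25))),
  .mul (.mul (.mul (.inv (.g 0)) (.g 25)) (.g 0)) (.inv (.mul (.mul (.mul (.mul (.mul (.g 19) (.inv (.g 21)))
    (.inv (.g 23))) (.g 25)) (.g 19)) (.g 25))),
  .mul (.mul (.mul (.inv (.g 0)) (.g 27)) (.g 0)) (.inv (.pow (.g 27) 2)),
  .mul (.mul (.mul (.inv (.g 2)) (.g 21)) (.g 2)) (.inv (.mul (.mul (.mul (.mul (.g 21) (.g 23)) (.inv (.g
    25))) (.inv (.g 19))) (.inv (.g 25)))),
  .mul (.mul (.mul (.inv (.g 2)) (.g 23)) (.g 2)) (.inv (.mul (.mul (.pow (.g 19) 2) (.g 25)) (.inv (.pow (.g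
    23) 2)))),
  .mul (.mul (.mul (.inv (.g 2)) (.g 27)) (.g 2)) (.inv (.g 27)),
  .mul (.g 10) (.inv (.mul (.mul (.mul (.mul (.mul (.mul (.mul (.mul (.mul (.mul (.mul (.mul (.inv (.pow (.g
    2) 2)) (.mul (.mul (.mul (.inv (.g 0)) (.inv (.g 19))) (.g 0)) (.g 19))) (.inv (.g 0))) (.g 19)) (.g 0))
    (.g 6)) (.g 19)) (.g 2)) (.g 0)) (.inv (.g 2))) (.g 6)) (.g 19)) (.g 6))),
  .pow (.g 10) 2,
  .mul (.mul (.mul (.inv (.g 10)) (.g 19)) (.g 10)) (.inv (.mul (.mul (.mul (.g 2) (.g 23)) (.g 2)) (.inv (.g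
    19)))),
  .mul (.mul (.mul (.inv (.g 10)) (.g 23)) (.g 10)) (.inv (.mul (.mul (.mul (.mul (.mul (.pow (.g 2) 2) (.g
    0)) (.g 21)) (.inv (.g 19))) (.inv (.g 25))) (.inv (.g 0)))),
  .mul (.mul (.mul (.inv (.g 10)) (.g 25)) (.g 10)) (.inv (.mul (.mul (.pow (.g 2) 2) (.inv (.g 23))) (.g
    25))),
  .mul (.mul (.mul (.inv (.g 10)) (.g 27)) (.g 10)) (.inv (.mul (.mul (.mul (.g 19) (.inv (.g 23))) (.g 19))
    (.inv (.g 25)))),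
  .mul (.mul (.mul (.g 10) (.pow (.g 0) 2)) (.g 10)) (.inv (.mul (.mul (.mul (.mul (.mul (.mul (.mul (.g 0)
    (.pow (.g 2) 2)) (.g 0)) (.inv (.g 2))) (.g 0)) (.g 19)) (.g 27)) (.inv (.g 25)))),
  .mul (.mul (.mul (.inv (.g 10)) (.g 2)) (.g 10)) (.inv (.mul (.mul (.g 19) (.inv (.g 23))) (.inv (.pow (.g
    25) 2)))),
  .mul (.mul (.mul (.mul (.mul (.mul (.mul (.g 10) (.g 0)) (.pow (.g 2) 2)) (.g 0)) (.inv (.g 2))) (.g 0))
    (.g 10)) (.inv (.mul (.mul (.mul (.pow (.g 0) 2) (.g 19)) (.g 27)) (.inv (.g 25)))),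
  .mul (.mul (.mul (.mul (.mul (.mul (.mul (.mul (.mul (.g 10) (.g 21)) (.g 10)) (.inv (.g 21))) (.g 10)) (.g
    21)) (.inv (.g 25))) (.g 0)) (.g 23)) (.pow (.g 0) 3),
  .mul (.g 6) (.inv (.mul (.mul (.mul (.mul (.mul (.mul (.mul (.mul (.mul (.mul (.mul (.mul (.mul (.mul (.g
    0) (.pow (.g 2) 2)) (.inv (.g 0))) (.inv (.g 2))) (.inv (.g 19))) (.inv (.g 25))) (.inv (.g 27))) (.g 0))
    (.g 10)) (.g 0)) (.g 10)) (.g 0)) (.inv (.g 21))) (.g 2)) (.g 10))),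
  .mul (.pow (.g 6) 2) (.inv (.pow (.g 0) 4)),
  .mul (.mul (.mul (.inv (.g 2)) (.inv (.g 6))) (.g 2)) (.g 6),
  .mul (.mul (.mul (.inv (.g 6)) (.g 0)) (.g 6)) (.inv (.pow (.g 0) 3)),
  .pow (.mul (.g 6) (.g 27)) 5,
  .mul (.mul (.mul (.mul (.mul (.mul (.g 6) (.g 27)) (.g 6)) (.inv (.g 27))) (.g 6)) (.g 27)) (.inv (.pow (.g
    0) 2)),
  .mul (.g 11) (.inv (.g 0)),
  .mul (.g 13) (.inv (.mul (.mul (.inv (.inv (.g 2))) (.g 0)) (.inv (.g 2)))),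
  .mul (.g 15) (.inv (.mul (.mul (.inv (.inv (.pow (.g 2) 2))) (.g 0)) (.inv (.pow (.g 2) 2)))),
  .mul (.g 17) (.inv (.mul (.mul (.inv (.pow (.g 2) 2)) (.g 0)) (.pow (.g 2) 2))),
  .mul (.g 29) (.inv (.pow (.g 0) 2)),
  .mul (.g 31) (.inv (.g 6)),
  .mul (.g 33) (.inv (.inv (.g 6))),
  .mul (.g 35) (.inv (.mul (.mul (.mul (.mul (.mul (.mul (.mul (.mul (.mul (.mul (.mul (.mul (.mul (.mul
    (.mul (.pow (.g 2) 2) (.inv (.g 0))) (.inv (.g 2))) (.inv (.g 0))) (.pow (.g 2) 2)) (.inv (.g 4))) (.g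
    0)) (.g 4)) (.inv (.g 0))) (.inv (.g 4))) (.g 6)) (.inv (.g 4))) (.pow (.g 2) 2)) (.inv (.g 0))) (.g 4))
    (.g 2))),
  .mul (.g 37) (.inv (.mul (.mul (.mul (.mul (.mul (.mul (.mul (.mul (.mul (.mul (.mul (.mul (.mul (.mul
    (.mul (.mul (.mul (.mul (.g 0) (.g 2)) (.inv (.g 0))) (.pow (.g 2) 2)) (.inv (.g 0))) (.pow (.g 2) 2))
    (.inv (.g 4))) (.g 0)) (.g 4)) (.g 2)) (.g 4)) (.inv (.g 2))) (.g 6)) (.g 4)) (.inv (.pow (.g 2) 2))) (.g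
    6)) (.g 4)) (.g 2)) (.g 4))),
  .mul (.g 39) (.inv (.mul (.mul (.mul (.mul (.mul (.mul (.mul (.inv (.g 4)) (.inv (.g 6))) (.inv (.g 0)))
    (.inv (.g 4))) (.inv (.g 0))) (.g 2)) (.inv (.g 4))) (.inv (.g 6)))),
  .mul (.g 41) (.inv (.mul (.g 2) (.g 6))),
  .mul (.g 43) (.inv (.mul (.inv (.g 6)) (.inv (.g 2)))),
  .mul (.g 45) (.inv (.mul (.mul (.mul (.mul (.mul (.mul (.mul (.mul (.mul (.inv (.g 0)) (.inv (.g 2))) (.inv
    (.g 0))) (.g 2)) (.inv (.g 4))) (.inv (.g 2))) (.g 0)) (.inv (.g 4))) (.g 2)) (.g 0))),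
  .mul (.g 47) (.inv (.mul (.mul (.mul (.mul (.mul (.mul (.inv (.pow (.g 2) 2)) (.g 0)) (.g 4)) (.inv (.g
    0))) (.g 2)) (.g 4)) (.g 2))),
  .mul (.g 49) (.inv (.mul (.mul (.mul (.mul (.mul (.mul (.inv (.g 0)) (.inv (.g 2))) (.inv (.g 0))) (.g 4))
    (.g 0)) (.g 2)) (.g 0))),
  .mul (.g 51) (.inv (.mul (.mul (.mul (.mul (.mul (.mul (.inv (.g 2)) (.inv (.g 0))) (.g 2)) (.g 4)) (.inv
    (.g 2))) (.g 0)) (.g 2))),
  .mul (.g 53) (.inv (.mul (.mul (.mul (.mul (.mul (.mul (.mul (.mul (.pow (.g 2) 2) (.inv (.g 0))) (.inv (.g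
    2))) (.g 4)) (.g 2)) (.g 0)) (.g 4)) (.inv (.pow (.g 2) 2))) (.inv (.g 4)))),
  .mul (.g 55) (.inv (.inv (.pow (.g 0) 3))),
  .mul (.g 57) (.inv (.mul (.mul (.mul (.g 2) (.inv (.g 0))) (.inv (.g 2))) (.inv (.pow (.g 0) 2)))),
  .mul (.g 59) (.inv (.mul (.mul (.mul (.mul (.g 0) (.pow (.g 2) 2)) (.g 0)) (.inv (.pow (.g 2) 2))) (.inv
    (.g 0)))),
  .mul (.g 61) (.inv (.mul (.mul (.mul (.mul (.mul (.mul (.mul (.mul (.mul (.mul (.mul (.mul (.mul (.mul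
    (.mul (.mul (.mul (.mul (.inv (.g 0)) (.g 6)) (.inv (.g 2))) (.inv (.g 4))) (.inv (.g 0))) (.g 2)) (.inv
    (.g 4))) (.inv (.g 6))) (.g 2)) (.inv (.g 4))) (.inv (.g 2))) (.inv (.g 0))) (.inv (.g 4))) (.g 0)) (.inv
    (.g 2))) (.g 0)) (.g 2)) (.g 0)) (.inv (.g 2)))),
  .mul (.g 63) (.inv (.mul (.mul (.mul (.mul (.mul (.mul (.mul (.mul (.mul (.mul (.mul (.mul (.mul (.mul
    (.mul (.mul (.g 0) (.inv (.pow (.g 2) 2))) (.inv (.g 0))) (.g 4)) (.g 2)) (.inv (.g 4))) (.g 2)) (.inv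
    (.g 0))) (.inv (.pow (.g 4) 2))) (.g 6)) (.g 4)) (.g 0)) (.g 4)) (.inv (.g 0))) (.g 4)) (.inv (.g 2)))
    (.inv (.g 6)))),
  .mul (.g 65) (.inv (.mul (.mul (.mul (.mul (.mul (.mul (.mul (.mul (.mul (.mul (.mul (.mul (.mul (.mul
    (.mul (.mul (.mul (.g 2) (.g 0)) (.inv (.g 2))) (.inv (.g 0))) (.inv (.pow (.g 2) 2))) (.inv (.g 0)))
    (.inv (.g 2))) (.g 4)) (.pow (.g 2) 2)) (.g 4)) (.g 2)) (.g 6)) (.g 4)) (.inv (.pow (.g 2) 2))) (.g 6))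
    (.g 4)) (.g 2)) (.g 4))),
  .mul (.g 67) (.inv (.mul (.mul (.mul (.mul (.mul (.mul (.mul (.mul (.mul (.mul (.mul (.mul (.mul (.mul
    (.mul (.mul (.mul (.inv (.g 4)) (.inv (.g 2))) (.inv (.g 4))) (.inv (.g 6))) (.pow (.g 2) 2)) (.inv (.g
    4))) (.inv (.g 6))) (.inv (.g 2))) (.inv (.g 4))) (.inv (.pow (.g 2) 2))) (.inv (.g 4))) (.g 2)) (.g 0))
    (.pow (.g 2) 2)) (.g 0)) (.g 2)) (.inv (.g 0))) (.inv (.g 2)))),
  .mul (.g 69) (.inv (.mul (.mul (.mul (.mul (.mul (.mul (.mul (.mul (.mul (.mul (.mul (.mul (.mul (.mul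
    (.mul (.mul (.mul (.inv (.g 0)) (.inv (.g 4))) (.inv (.g 6))) (.g 0)) (.inv (.g 4))) (.inv (.g 2))) (.g
    0)) (.inv (.g 4))) (.inv (.g 6))) (.inv (.g 0))) (.inv (.g 4))) (.g 0)) (.g 4)) (.inv (.pow (.g 2) 2)))
    (.inv (.g 4))) (.inv (.g 2))) (.inv (.g 0))) (.inv (.pow (.g 2) 2)))),
  .mul (.g 71) (.inv (.mul (.mul (.mul (.mul (.mul (.mul (.mul (.mul (.mul (.mul (.mul (.mul (.mul (.mul
    (.mul (.mul (.inv (.g 0)) (.inv (.g 4))) (.inv (.g 6))) (.g 2)) (.inv (.g 0))) (.inv (.g 2))) (.inv (.g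
    4))) (.inv (.g 6))) (.g 2)) (.inv (.g 0))) (.inv (.g 2))) (.inv (.g 4))) (.inv (.g 2))) (.g 0)) (.inv
    (.pow (.g 2) 2))) (.g 0)) (.inv (.g 2)))),
  .mul (.g 73) (.inv (.mul (.mul (.mul (.mul (.mul (.mul (.mul (.mul (.mul (.mul (.mul (.mul (.mul (.mul
    (.mul (.mul (.inv (.g 6)) (.g 0)) (.g 4)) (.g 2)) (.g 4)) (.inv (.g 0))) (.inv (.g 4))) (.inv (.g 6)))
    (.g 0)) (.inv (.g 2))) (.inv (.g 0))) (.g 4)) (.inv (.g 0))) (.inv (.pow (.g 2) 2))) (.inv (.g 0))) (.g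
    2)) (.inv (.g 0)))),
  .mul (.g 75) (.inv (.mul (.mul (.mul (.mul (.mul (.mul (.mul (.mul (.mul (.mul (.mul (.mul (.mul (.mul
    (.mul (.inv (.g 4)) (.inv (.g 0))) (.g 4)) (.g 2)) (.inv (.g 4))) (.inv (.g 6))) (.g 4)) (.inv (.g 0)))
    (.g 4)) (.g 0)) (.g 4)) (.inv (.g 2))) (.inv (.g 0))) (.inv (.g 2))) (.inv (.g 0))) (.g 2))),
  .mul (.mul (.mul (.inv (.g 8)) (.g 19)) (.g 8)) (.inv (.g 45)),
  .mul (.mul (.mul (.inv (.g 8)) (.g 21)) (.g 8)) (.inv (.g 47)),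
  .mul (.mul (.mul (.inv (.g 8)) (.g 23)) (.g 8)) (.inv (.g 49)),
  .mul (.mul (.mul (.inv (.g 8)) (.g 25)) (.g 8)) (.inv (.g 51)),
  .mul (.mul (.mul (.inv (.g 8)) (.g 27)) (.g 8)) (.inv (.g 53)),
  .mul (.mul (.mul (.inv (.g 8)) (.g 11)) (.g 8)) (.inv (.g 55)),
  .mul (.mul (.mul (.inv (.g 8)) (.g 13)) (.g 8)) (.inv (.g 57)),
  .mul (.mul (.mul (.inv (.g 8)) (.g 15)) (.g 8)) (.inv (.g 59)),
  .mul (.pow (.g 8) 2) (.inv (.g 29)),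
  .mul (.pow (.mul (.g 17) (.g 8)) 3) (.g 29),
  .mul (.mul (.mul (.mul (.mul (.g 39) (.g 8)) (.g 61)) (.g 8)) (.g 69)) (.g 8),
  .mul (.mul (.mul (.mul (.mul (.mul (.mul (.inv (.g 8)) (.g 33)) (.inv (.g 8))) (.g 71)) (.g 8)) (.g 31))
    (.g 8)) (.g 37),
  .mul (.mul (.mul (.mul (.mul (.mul (.mul (.g 8) (.g 65)) (.g 8)) (.g 63)) (.inv (.g 8))) (.g 67)) (.inv (.g
    8))) (.g 73),
  .mul (.mul (.mul (.mul (.mul (.mul (.mul (.g 8) (.g 41)) (.g 8)) (.g 35)) (.inv (.g 8))) (.g 43)) (.inv (.g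
    8))) (.g 75)]

abbrev iv0 : ℕ → ℕ := ivT IV 77

abbrev base : List (List ℕ) := baseRels iv0 prs ex

theorem cox : CoxData Cfsg.Spor.Ly.edges Cfsg.Spor.Ly.extra cl idx IV prs ex :=
  ⟨fun x => by cases x <;> rfl, by decide +kernel, by decide +kernel, by decide +kernel, by decide +kernel,
    rfl⟩

/-- the columns. -/
abbrev γ : ℕ → Cfsg.Spor.Ly := coxγ Cfsg.Spor.Ly.edges Cfsg.Spor.Ly.extra cl

theorem hiv : ∀ c, γ (iv0 c) = (γ c)⁻¹ := cox.ivG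

theorem hb : ∀ r ∈ base, wval γ r = 1 := cox.base_rels

theorem genLt_top : genLt γ 77 = ⊤ := cox.genLt_eq_top

end

end CL.CGT.Ly
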